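import Cfsg.Agent.H956.K547.Par
import Cfsg.Agent.H956.K4.McLRow
import Cfsg.Agent.H332.EB.McLAut
import Cfsg.Agent.H419.Spor.Mathieu
import Cfsg.Agent.S0401
import Cfsg.Agent.S1579

/-!
# S4547, sporadic row `McL`: three invariant good characters (helper956)

* `exists_commute` : some element `x` of order 11 of `K (-leechV) leechU` commutes with an isometry fixing `leechV` and
  interchanging the two other vectors of the triangle (monomial picture: the triangle `(2^12)`, `(-3, 1^23)`, the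
  coordinate permutation `x ↦ 2 x` and a change of signs on a dodecad);
* `ginv3_mcl` : `GInv3 τ` for the automorphisms of `McL`.
-/

set_option autoImplicit false

namespace Cfsg.Agent.H956.K547.McL

open Cfsg Cfsg.Agent.LeechMat.Code Cfsg.Agent.LeechMat.Core Cfsg.Agent.LeechMat.Elements
open Cfsg.Agent.SporadicA.Co0Mono Cfsg.Agent.H997.OutMcL
open Cfsg.Agent.Characters.Core Cfsg.Agent.H419.Spor.Mathieu
open Cfsg.Agent.H740.K4.Wedge (alt)

universe u

/-! ### the monomial triangle -/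

def cu : ℕ := 0x8421084a12842528425284a1294a52
def cv : ℕ := 0x6c6318c6318c6318c6318c6318c631

/-- the vector `(2^12, 0^12)` -/
def u1 : leechLattice := ⟨vec cu, isLeech_sound (by decide +kernel)⟩
/-- the vector `(-3, 1^23)` -/
def v1 : leechLattice := ⟨vec cv, isLeech_sound (by decide +kernel)⟩

theorem norm_u1 : sqNorm (u1 : GolayPt → ℤ) = 48 := by
  rw [sqNorm_eq_dotInt]
  exact (dotc_eq cu cu).symm.trans (by decide +kernel)

theorem norm_v1 : sqNorm (v1 : GolayPt → ℤ) = 32 := by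
  rw [sqNorm_eq_dotInt]
  exact (dotc_eq cv cv).symm.trans (by decide +kernel)

theorem dot_uv : dotInt (u1 : GolayPt → ℤ) (v1 : GolayPt → ℤ) = 24 :=
  (dotc_eq cu cv).symm.trans (by decide +kernel)

theorem norm_sub1 : sqNorm ((u1 : GolayPt → ℤ) - (v1 : GolayPt → ℤ)) = 32 := by
  rw [Cfsg.Agent.Leech.Basic.sqNorm_sub, norm_u1, norm_v1, dot_uv]
  norm_num

/-- the multiplication by two -/
noncomputable def m11 : M24 := ⟨M, M_mem⟩

theorem m11_pow : m11 ^ 11 = 1 := by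
  apply Subtype.ext
  show M ^ 11 = 1
  apply Equiv.ext
  decide +kernel

/-- the complement of the dodecad -/
def cd : golayCode := ⟨1 + qrWord 0, golayCode.add_mem (Submodule.subset_span (Or.inr rfl))
  (Submodule.subset_span (Or.inl ⟨0, rfl⟩))⟩

noncomputable def x1 : Co0 := permCo0 m11

noncomputable def z1 : Co0 := signCo0 cd

theorem x1_u : x1 • u1 = u1 := by
  apply Subtype.ext
  funext p
  have h : ∀ p, permMap M (vec cu) p = vec cu p := by decide +kernel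
  exact h p

theorem x1_v : x1 • v1 = v1 := by
  apply Subtype.ext
  funext p
  have h : ∀ p, permMap M (vec cv) p = vec cv p := by decide +kernel
  exact h p

theorem z1_u : z1 • u1 = u1 := by
  apply Subtype.ext
  funext p
  have h : ∀ p, signMap (1 + qrWord 0) (vec cu) p = vec cu p := by decide +kernel
  exact h p

theorem z1_v : z1 • v1 = u1 - v1 := by
  apply Subtype.ext
  funext p
  have h : ∀ p, signMap (1 + qrWord 0) (vec cv) p = vec cu p - vec cv p := by decide +kernel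
  exact h p

theorem z1_sq : z1 * z1 = 1 := signCo0_mul_self _

theorem comm : z1 * x1 = x1 * z1 := by
  apply ext
  intro v
  apply Subtype.ext
  funext p
  rw [mul_smul, mul_smul]
  show sgn ((1 + qrWord 0 : GolayPt → ZMod 2) p) * (v : GolayPt → ℤ) (M.symm p) =
    sgn ((1 + qrWord 0 : GolayPt → ZMod 2) (M.symm p)) * (v : GolayPt → ℤ) (M.symm p)
  have h : ∀ p, (1 + qrWord 0 : GolayPt → ZMod 2) (M.symm p) = (1 + qrWord 0 : GolayPt → ZMod 2) p := by
    decide +kernel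
  rw [h]

theorem fix1 : Nat.card (MulAction.fixedBy GolayPt m11) = 2 := by
  rw [Nat.card_eq_fintype_card, Fintype.card_subtype]
  have h : (Finset.univ.filter fun p : GolayPt => M p = p).card = 2 := by decide +kernel
  exact h

theorem fix2 : Nat.card (MulAction.fixedBy GolayPt (m11 * m11)) = 2 := by
  rw [Nat.card_eq_fintype_card, Fintype.card_subtype]
  have h : (Finset.univ.filter fun p : GolayPt => M (M p) = p).card = 2 := by decide +kernel
  exact h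

/-! ### the triangle of the definition -/

open Cfsg.Agent.SporadicRecognition.HSRank (K)
open Cfsg.Agent.SporadicRecognition.McLAssemble (norm_U norm_negV norm_sub)
open Cfsg.Agent.H419.LeechIrr Cfsg.Agent.H419.LeechFix
open Cfsg.Agent.Leech.Co0Elts (smul_neg_co0)
open Cfsg.Agent.H332.EB.McLAut (smul_sub_co0)

/-- the group -/
abbrev K0 : Subgroup ↥Co0 := K (-Spor.leechV) Spor.leechU

theorem exists_move : ∃ a : ↥Co0, a • u1 = -Spor.leechV ∧ a • v1 = Spor.leechU := by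
  obtain ⟨b, hb⟩ := Cfsg.Agent.S0401.result u1 (-Spor.leechV) norm_u1 norm_negV
  have h1 : sqNorm ((b • v1 : leechLattice) : GolayPt → ℤ) = 32 := by
    rw [Cfsg.Agent.Leech.Co0Elts.sqNorm_smul, norm_v1]
  have h2 : sqNorm (((-Spor.leechV : leechLattice) : GolayPt → ℤ) - ((b • v1 : leechLattice) : GolayPt → ℤ)) = 32 := by
    have h3 := Cfsg.Agent.Leech.Co0Elts.sqNorm_smul b (u1 - v1)
    rw [smul_sub_co0, hb] at h3
    exact h3.trans norm_sub1
  obtain ⟨c, hc1, hc2⟩ := Cfsg.Agent.S1579.result (-Spor.leechV) (b • v1) Spor.leechU norm_negV ⟨h1, h2⟩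
    ⟨norm_U, norm_sub⟩
  exact ⟨c * b, by rw [mul_smul, hb, hc1], by rw [mul_smul, hc2]⟩

/-- traces -/
theorem tr8_conj (g k : ↥Co0) : Cfsg.Agent.Co2Type.Mono.tr8 (g * k * g⁻¹) = Cfsg.Agent.Co2Type.Mono.tr8 k := by
  have h1 : lchi (MonoidHom.id ↥Co0) (g * k * g⁻¹) = lchi (MonoidHom.id ↥Co0) k := by
    rw [lchi_eq, Representation.char_conj]
  unfold lchi at h1
  have h2 : (Cfsg.Agent.Co2Type.Mono.tr8 (g * k * g⁻¹) : ℂ) / 8 = (Cfsg.Agent.Co2Type.Mono.tr8 k : ℂ) / 8 := h1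
  have h3 : (Cfsg.Agent.Co2Type.Mono.tr8 (g * k * g⁻¹) : ℂ) = (Cfsg.Agent.Co2Type.Mono.tr8 k : ℂ) := by
    have h8 : (8 : ℂ) ≠ 0 := by norm_num
    field_simp at h2
    exact h2
  exact_mod_cast h3

/-- **The commuting element.** -/
theorem exists_commute : ∃ (x : ↥K0) (z : ↥Co0), x ^ 11 = 1 ∧ z • (-Spor.leechV) = -Spor.leechV ∧ z • Spor.leechU = W ∧
    z * x = x * z ∧ lchi K0.subtype x = 2 ∧ lchi K0.subtype (x * x) = 2 := by
  obtain ⟨a, hu, hv⟩ := exists_move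
  have hu' : a⁻¹ • (-Spor.leechV) = u1 := by rw [inv_smul_eq_iff, hu]
  have hv' : a⁻¹ • Spor.leechU = v1 := by rw [inv_smul_eq_iff, hv]
  have hx : a * x1 * a⁻¹ ∈ K0 := by
    refine ⟨?_, ?_⟩
    · show (a * x1 * a⁻¹) • (-Spor.leechV) = -Spor.leechV
      rw [mul_smul, mul_smul, hu', x1_u, hu]
    · show (a * x1 * a⁻¹) • Spor.leechU = Spor.leechU
      rw [mul_smul, mul_smul, hv', x1_v, hv]
  refine ⟨⟨a * x1 * a⁻¹, hx⟩, a * z1 * a⁻¹, ?_, ?_, ?_, ?_, ?_, ?_⟩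
  · apply Subtype.ext
    show (a * x1 * a⁻¹) ^ 11 = 1
    rw [conj_pow]
    have h1 : x1 ^ 11 = 1 := by
      show permCo0 m11 ^ 11 = 1
      rw [← map_pow, m11_pow, map_one]
    rw [h1, mul_one, mul_inv_cancel]
  · rw [mul_smul, mul_smul, hu', z1_u, hu]
  · rw [mul_smul, mul_smul, hv', z1_v, smul_sub_co0, hu, hv]
    rfl
  · show a * z1 * a⁻¹ * (a * x1 * a⁻¹) = a * x1 * a⁻¹ * (a * z1 * a⁻¹)
    calc a * z1 * a⁻¹ * (a * x1 * a⁻¹) = a * (z1 * x1) * a⁻¹ := by group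
      _ = a * (x1 * z1) * a⁻¹ := by rw [comm]
      _ = a * x1 * a⁻¹ * (a * z1 * a⁻¹) := by group
  · have h1 := lchi_perm (MonoidHom.id ↥Co0) (g := x1) (σ := m11) rfl
    rw [fix1] at h1
    have h2 : lchi K0.subtype ⟨a * x1 * a⁻¹, hx⟩ = lchi (MonoidHom.id ↥Co0) x1 := by
      show (Cfsg.Agent.Co2Type.Mono.tr8 (a * x1 * a⁻¹) : ℂ) / 8 = (Cfsg.Agent.Co2Type.Mono.tr8 x1 : ℂ) / 8
      rw [tr8_conj]
    rw [h2, h1]
    norm_num
  · have h1 := lchi_perm (MonoidHom.id ↥Co0) (g := x1 * x1) (σ := m11 * m11) (by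
      show x1 * x1 = permCo0 (m11 * m11)
      rw [map_mul]
      rfl)
    rw [fix2] at h1
    have h2 : lchi K0.subtype ((⟨a * x1 * a⁻¹, hx⟩ : ↥K0) * ⟨a * x1 * a⁻¹, hx⟩) =
        lchi (MonoidHom.id ↥Co0) (x1 * x1) := by
      show (Cfsg.Agent.Co2Type.Mono.tr8 (a * x1 * a⁻¹ * (a * x1 * a⁻¹)) : ℂ) / 8 =
        (Cfsg.Agent.Co2Type.Mono.tr8 (x1 * x1) : ℂ) / 8
      rw [show a * x1 * a⁻¹ * (a * x1 * a⁻¹) = a * (x1 * x1) * a⁻¹ by group, tr8_conj]
    rw [h2, h1]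
    norm_num

/-- The automorphisms of the group are conjugations by isometries preserving the triangle. -/
theorem exists_conj' (α : ↥K0 ≃* ↥K0) : ∃ g : ↥Co0, g • (-Spor.leechV) = -Spor.leechV ∧
    (g • Spor.leechU = Spor.leechU ∨ (g • Spor.leechU = W ∧ g • W = Spor.leechU)) ∧
    ∀ k : ↥K0, ((α k : ↥K0) : ↥Co0) = g * k * g⁻¹ := by
  obtain ⟨z, hz, hV, hU, hs⟩ := Cfsg.Agent.H332.EB.McLAut.exists_conj
    ((H713.Spor.McL.mclEquiv.trans α).trans H713.Spor.McL.mclEquiv.symm)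
  obtain ⟨g, hg⟩ : ∃ g : ↥Co0, g = ⟨z, hz⟩ := ⟨_, rfl⟩
  have hgz : ∀ v : ↥leechLattice, g • v = z v := fun v => by rw [hg]; rfl
  refine ⟨g, ?_, ?_, ?_⟩
  · rw [smul_neg_co0, hgz, hV]
  · rcases hU with hU | ⟨hU, hW⟩
    · exact Or.inl (by rw [hgz, hU])
    · exact Or.inr ⟨by rw [hgz, hU], by rw [hgz, hW]⟩
  · intro k
    apply Subtype.ext
    obtain ⟨s, rfl⟩ := H713.Spor.McL.mclEquiv.surjective k
    have h1 := hs s
    have h2 : H713.Spor.McL.mclEquiv (((H713.Spor.McL.mclEquiv.trans α).trans H713.Spor.McL.mclEquiv.symm) s) =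
        α (H713.Spor.McL.mclEquiv s) := by
      show H713.Spor.McL.mclEquiv (H713.Spor.McL.mclEquiv.symm (α (H713.Spor.McL.mclEquiv s))) = _
      rw [MulEquiv.apply_symm_apply]
    rw [← h2, hg]
    exact h1

/-- The element of order 11 is conjugate to its images under automorphisms. -/
theorem exists_elt : ∃ x : ↥K0, x ^ 11 = 1 ∧ lchi K0.subtype x = 2 ∧ lchi K0.subtype (x * x) = 2 ∧
    ∀ α : ↥K0 ≃* ↥K0, ∃ s : ↥K0, α x = s * x * s⁻¹ := by
  obtain ⟨x, z, h1, h2, h3, h4, h5, h6⟩ := exists_commute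
  refine ⟨x, h1, h5, h6, fun α => ?_⟩
  obtain ⟨g, hV, hU, hα⟩ := exists_conj' α
  rcases hU with hU | ⟨hU, hW⟩
  · exact ⟨⟨g, hV, hU⟩, Subtype.ext (hα x)⟩
  · have hz1 : z⁻¹ • (-Spor.leechV) = -Spor.leechV := by rw [inv_smul_eq_iff, h2]
    have hzW : z • W = Spor.leechU := by
      have h7 : W = -Spor.leechV - Spor.leechU := rfl
      rw [h7, smul_sub_co0, h2, h3, h7]
      abel
    have hz2 : z⁻¹ • Spor.leechU = W := by rw [inv_smul_eq_iff, hzW]
    refine ⟨⟨g * z⁻¹, ?_, ?_⟩, Subtype.ext ?_⟩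
    · show (g * z⁻¹) • (-Spor.leechV) = -Spor.leechV
      rw [mul_smul, hz1, hV]
    · show (g * z⁻¹) • Spor.leechU = Spor.leechU
      rw [mul_smul, hz2, hW]
    · rw [hα x]
      show g * (x : ↥Co0) * g⁻¹ = g * z⁻¹ * (x : ↥Co0) * (g * z⁻¹)⁻¹
      have h8 : z⁻¹ * (x : ↥Co0) * z = x := by
        rw [mul_assoc, ← h4, inv_mul_cancel_left]
      calc g * (x : ↥Co0) * g⁻¹ = g * (z⁻¹ * (x : ↥Co0) * z) * g⁻¹ := by rw [h8]
        _ = g * z⁻¹ * (x : ↥Co0) * (g * z⁻¹)⁻¹ := by group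

/-- **`GInv3` for `McL`.** -/
theorem ginv3_mcl {S : Type u} [Group S] (h : Spor.IsoMcL S) (τ : MulAut S) (hτ : H821.K547.TwoPow τ) :
    H821.K547.GInv3 τ := by
  obtain ⟨e0⟩ := h
  obtain ⟨e, -⟩ : ∃ e : S ≃* ↥K0, e = e0.trans H713.Spor.McL.mclEquiv := ⟨_, rfl⟩
  have hc : Nat.card S = 898128000 := by
    rw [Nat.card_congr e.toEquiv]
    exact H713.Spor.McL.facts.2
  have hfin : Finite S := Nat.finite_of_card_ne_zero (by rw [hc]; norm_num)
  obtain ⟨μ, -, hμ⟩ := H713.Spor.McL.exists_22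
  obtain ⟨hirr, hdeg, hrt⟩ := H956.K4.McLRow.alt_mu μ hμ
  have hfk : Finite ↥K0 := Finite.of_equiv _ e.toEquiv
  have hμ' : ∀ k, (μ : ↥K0 → ℂ) k = lchi K0.subtype k - 2 := by
    intro k
    rw [hμ k]
    push_cast
    ring
  have hgood : H601.K4.Good (alt (μ : ↥K0 → ℂ)) := H740.K4.good_of_rat hirr
    (H956.K4.McLRow.rat_of_rt (isIrr_isCharacter hirr) hrt) (by rw [hdeg]; decide)
  -- invariance
  have hinv : ∀ (α : ↥K0 ≃* ↥K0) (k : ↥K0), (μ : ↥K0 → ℂ) (α k) = (μ : ↥K0 → ℂ) k := by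
    intro α k
    obtain ⟨g, -, -, hα⟩ := exists_conj' α
    rw [hμ', hμ']
    congr 1
    show (Cfsg.Agent.Co2Type.Mono.tr8 ((α k : ↥K0) : ↥Co0) : ℂ) / 8 = (Cfsg.Agent.Co2Type.Mono.tr8 (k : ↥Co0) : ℂ) / 8
    rw [hα, tr8_conj]
  have hinv2 : ∀ (α : ↥K0 ≃* ↥K0) (k : ↥K0), alt (μ : ↥K0 → ℂ) (α k) = alt (μ : ↥K0 → ℂ) k := by
    intro α k
    unfold Cfsg.Agent.H740.K4.Wedge.alt
    rw [← map_mul, hinv, hinv]
  obtain ⟨x, hx, hl1, hl2, hconj⟩ := exists_elt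
  obtain ⟨α, hα⟩ : ∃ α : ↥K0 ≃* ↥K0, ∀ k, α k = e (τ (e.symm k)) := ⟨(e.symm.trans τ).trans e, fun k => rfl⟩
  obtain ⟨s, hs⟩ := hconj α
  have hval : alt (μ : ↥K0 → ℂ) x = ((0 : ℤ) : ℂ) := by
    unfold Cfsg.Agent.H740.K4.Wedge.alt
    rw [hμ', hμ', hl1, hl2]
    norm_num
  refine ginv3_of_two (t := e.symm x) (s := e.symm s) (χ := fun t => alt (μ : ↥K0 → ℂ) (e t)) (z := 0) ?_ hτ ?_ ?_
    (H740.K4.good_comp e hgood) ?_ ?_ ?_ (by decide)
  · rw [hc]; decide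
  · have h1 : orderOf (e.symm x) ∣ 11 := by
      apply orderOf_dvd_of_pow_eq_one
      rw [← map_pow, hx, map_one]
    exact Odd.of_dvd_nat (by decide) h1
  · have h1 := hα x
    rw [hs] at h1
    apply e.injective
    rw [← h1]
    simp
  · intro t
    have h1 : e (τ t) = α (e t) := by rw [hα, e.symm_apply_apply]
    show alt (μ : ↥K0 → ℂ) (e (τ t)) = alt (μ : ↥K0 → ℂ) (e t)
    rw [h1, hinv2]
  · intro h1
    have h2 := congrFun h1 (e.symm x)
    have h3 : alt (μ : ↥K0 → ℂ) (e (e.symm x)) = 1 := h2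
    rw [e.apply_symm_apply, hval, Int.cast_zero] at h3
    exact zero_ne_one h3
  · show alt (μ : ↥K0 → ℂ) (e (e.symm x)) = _
    rw [e.apply_symm_apply, hval]

end Cfsg.Agent.H956.K547.McL
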