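import Cfsg.Agent.H821.K547.Defs
import Cfsg.Agent.H740.K4.Four
import Cfsg.Agent.H740.K4.Equiv

/-!
# S4547: the parity of the `τ`-invariant good characters (helper956)

`|S|` even, `τ` of 2-power order modulo inner automorphisms, `t` an element of odd order conjugate to `τ t`:

* `par` : the sum of `χ t` over the `τ`-invariant good characters is zero modulo the maximal ideal;
* `ginv3_of_two` : a `τ`-invariant good character `χ ≠ 1` with `χ t` an even integer gives `GInv3 τ`.
-/

set_option autoImplicit false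

open Cfsg Cfsg.Agent.Characters.Core Cfsg.Agent.H618.Sigma Cfsg.Agent.Blocks.Local

namespace Cfsg.Agent.H956.K547

open Cfsg.Agent.H601.K4 Cfsg.Agent.H821.K547

universe u

variable {S : Type u} [Group S]

/-- the image of a good character under an automorphism -/
def tw (τ : MulAut S) (χ : {χ : IrrCharacter S // Good (χ : S → ℂ)}) : {χ : IrrCharacter S // Good (χ : S → ℂ)} :=
  ⟨⟨fun x => (χ.1 : S → ℂ) (τ x), (H740.K4.good_comp τ χ.2).odd.1⟩, H740.K4.good_comp τ χ.2⟩

theorem tw_apply (τ : MulAut S) (χ : {χ : IrrCharacter S // Good (χ : S → ℂ)}) (x : S) :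
    ((tw τ χ).1 : S → ℂ) x = (χ.1 : S → ℂ) (τ x) := rfl

theorem tw_iter (τ : MulAut S) (m : ℕ) (χ : {χ : IrrCharacter S // Good (χ : S → ℂ)}) (x : S) :
    (((tw τ)^[m] χ).1 : S → ℂ) x = (χ.1 : S → ℂ) ((τ ^ m) x) := by
  induction m generalizing χ with
  | zero => rfl
  | succ m ih =>
    rw [Function.iterate_succ_apply, ih, tw_apply, pow_succ']
    rfl

/-- **Parity of the invariant good characters.** -/
theorem par [Finite S] (hev : Even (Nat.card S)) {τ : MulAut S} (hτ : TwoPow τ) {t s : S} (ht : Odd (orderOf t))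
    (hs : τ t = s * t * s⁻¹) (A : Finset (IrrCharacter S))
    (hA : ∀ χ : IrrCharacter S, χ ∈ A ↔ Good (χ : S → ℂ) ∧ ∀ x, (χ : S → ℂ) (τ x) = (χ : S → ℂ) x)
    {M : Ideal AlgInt} [M.IsPrime] (hM : IsPModular 2 M) : ∑ χ ∈ A, redC M ((χ : S → ℂ) t) = 0 := by
  classical
  have hchar := charP_resField hM
  obtain ⟨k, hk⟩ := H740.K4.exists_cube S
  have hfin : Finite (IrrCharacter S) := finite_irr
  have := Fintype.ofFinite (OddB M S)
  have := Fintype.ofFinite {χ : IrrCharacter S // Good (χ : S → ℂ)}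
  have h1 := sum_fixed_principal hM hk hev ht
  have h2 : ∑ χ : OddB M S with sigB hk M χ = χ, redC M ((χ.1 : S → ℂ) t) =
      ∑ χ : {χ : IrrCharacter S // Good (χ : S → ℂ)}, redC M ((χ.1 : S → ℂ) t) := by
    refine Finset.sum_bij (fun (χ : OddB M S) hχ => ⟨χ.1, H740.K4.good_of_mem hM hk χ (Finset.mem_filter.1 hχ).2⟩)
      ?_ ?_ ?_ ?_
    · intro χ _
      exact Finset.mem_univ _
    · intro a _ b _ hab
      exact Subtype.ext (congrArg (fun x : {χ : IrrCharacter S // Good (χ : S → ℂ)} => x.1) hab)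
    · intro χ _
      refine ⟨⟨χ.1, χ.2.b0 M hM χ.1.2, odd_iff.2 χ.2.odd.2⟩, ?_, rfl⟩
      rw [Finset.mem_filter]
      exact ⟨Finset.mem_univ _, (sigB_eq_iff hk _).2 fun g => χ.2.sig k hk.two hk.odd g⟩
    · intro χ _
      rfl
  rw [h2] at h1
  obtain ⟨n, r, hr⟩ := hτ
  rw [sum_fixed_perm (tw τ) n ?_ _ ?_] at h1
  · rw [← h1]
    symm
    refine Finset.sum_bij (fun (χ : {χ : IrrCharacter S // Good (χ : S → ℂ)}) _ => χ.1) ?_ ?_ ?_ ?_
    · intro χ hχ
      rw [Finset.mem_filter] at hχ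
      refine (hA _).2 ⟨χ.2, fun x => ?_⟩
      exact congrFun (congrArg (fun y : {χ : IrrCharacter S // Good (χ : S → ℂ)} => (y.1 : S → ℂ)) hχ.2) x
    · intro a _ b _ hab
      exact Subtype.ext hab
    · intro χ hχ
      obtain ⟨h3, h4⟩ := (hA χ).1 hχ
      refine ⟨⟨χ, h3⟩, ?_, rfl⟩
      rw [Finset.mem_filter]
      exact ⟨Finset.mem_univ _, Subtype.ext (Subtype.ext (funext h4))⟩
    · intro χ _
      rfl
  · intro χ
    apply Subtype.ext
    apply Subtype.ext
    funext x
    rw [tw_iter, hr]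
    exact isIrr_isClassFunction χ.1.2 x r
  · intro χ
    rw [tw_apply, hs]
    congr 1
    exact isIrr_isClassFunction χ.1.2 t s

/-- the trivial character is invariant -/
theorem one_inv (τ : MulAut S) (x : S) : (fun _ : S => (1 : ℂ)) (τ x) = (fun _ : S => (1 : ℂ)) x := rfl

/-- **`GInv3` from one invariant character with an even value.** -/
theorem ginv3_of_two [Finite S] (hev : Even (Nat.card S)) {τ : MulAut S} (hτ : TwoPow τ) {t s : S}
    (ht : Odd (orderOf t)) (hs : τ t = s * t * s⁻¹) {χ : S → ℂ} (hχ : Good χ) (hinv : ∀ x, χ (τ x) = χ x)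
    (hne : χ ≠ fun _ => 1) {z : ℤ} (hz : χ t = z) (hz2 : Even z) : GInv3 τ := by
  classical
  obtain ⟨M, hM⟩ := Cfsg.Agent.Blocks.ExistsModular.exists_isPModular Nat.prime_two
  have : M.IsPrime := hM.2.1.isPrime
  have hchar := charP_resField hM
  have hfin : Finite (IrrCharacter S) := finite_irr
  have := Fintype.ofFinite (IrrCharacter S)
  have hone : Good (fun _ : S => (1 : ℂ)) := H740.K4.good_one'
  let a : IrrCharacter S := ⟨fun _ => 1, hone.odd.1⟩
  let b : IrrCharacter S := ⟨χ, hχ.odd.1⟩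
  have hab : a ≠ b := fun h => hne (congrArg Subtype.val h).symm
  let A : Finset (IrrCharacter S) := Finset.univ.filter fun χ =>
    Good (χ : S → ℂ) ∧ ∀ x, (χ : S → ℂ) (τ x) = (χ : S → ℂ) x
  have hA : ∀ χ : IrrCharacter S, χ ∈ A ↔ Good (χ : S → ℂ) ∧ ∀ x, (χ : S → ℂ) (τ x) = (χ : S → ℂ) x := fun χ => by
    simp [A]
  have ha : a ∈ A := (hA a).2 ⟨hone, fun _ => rfl⟩
  have hb : b ∈ A := (hA b).2 ⟨hχ, hinv⟩
  have h1 := par hev hτ ht hs A hA hM
  obtain ⟨c, hc, hca, hcb⟩ : ∃ c ∈ A, c ≠ a ∧ c ≠ b := by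
    by_contra hcon
    push Not at hcon
    have h2 : A = {a, b} := by
      apply Finset.Subset.antisymm
      · intro c hc
        rw [Finset.mem_insert, Finset.mem_singleton]
        by_cases h : c = a
        · exact Or.inl h
        · exact Or.inr (hcon c hc h)
      · intro c hc
        rw [Finset.mem_insert, Finset.mem_singleton] at hc
        rcases hc with rfl | rfl
        exacts [ha, hb]
    rw [h2, Finset.sum_pair hab] at h1
    have h3 : redC M ((a : S → ℂ) t) = 1 := by
      have : (a : S → ℂ) t = ((1 : ℤ) : ℂ) := by rw [Int.cast_one]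
      rw [this, redC_intCast, Int.cast_one]
    have h4 : redC M ((b : S → ℂ) t) = ((z : ℤ) : ResField M) := by
      have : (b : S → ℂ) t = ((z : ℤ) : ℂ) := hz
      rw [this, redC_intCast]
    have h5 : ((z : ℤ) : ResField M) = 0 := by
      obtain ⟨w, rfl⟩ := hz2
      rw [Int.cast_add]
      exact CharTwo.add_self_eq_zero _
    rw [h3, h4, h5, add_zero] at h1
    exact one_ne_zero h1
  refine ⟨![(a : S → ℂ), (b : S → ℂ), (c : S → ℂ)], ?_, ?_⟩
  · have h1 : (a : S → ℂ) ≠ b := fun h => hab (Subtype.ext h)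
    have h2 : (a : S → ℂ) ≠ c := fun h => hca (Subtype.ext h.symm)
    have h3 : (b : S → ℂ) ≠ c := fun h => hcb (Subtype.ext h.symm)
    intro i j hij
    fin_cases i <;> fin_cases j
    · rfl
    · exact absurd hij h1
    · exact absurd hij h2
    · exact absurd hij.symm h1
    · rfl
    · exact absurd hij h3
    · exact absurd hij.symm h2
    · exact absurd hij.symm h3
    · rfl
  · intro i
    fin_cases i
    · exact (hA a).1 ha
    · exact (hA b).1 hb
    · exact (hA c).1 hc

end Cfsg.Agent.H956.K547
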